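import Mathlib
import Groth.Prelude.Def_RelProj
import Groth.Agent.ProjMor.VAmpleApply
import Groth.Agent.ProjMor.ProjSpaceBase
import Groth.Agent.TMul.RelAmple
/-!
Base change of H-quasi-projective morphisms; relation with quasi-projective morphisms.
-/
universe u
open AlgebraicGeometry CategoryTheory CategoryTheory.Limits
set_option backward.isDefEq.respectTransparency false
set_option linter.style.haveILetI false

namespace Groth.Agent.HQProj

theorem isProper_toBase (n : ℕ) (S : Scheme.{u}) : IsProper (CohB1.ProjSpaceOver.toBase n S) := by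
  haveI := ProjMor.isProper_toSpec n (ULift.{u} ℤ)
  exact MorphismProperty.pullback_snd _ _ inferInstance

theorem of_isPullback {X S X' S' : Scheme.{u}} {f : X ⟶ S} {f' : X' ⟶ S'} {g' : X' ⟶ X} {g : S' ⟶ S}
    (h : IsPullback g' f' f g) (hf : RelProj.IsHQuasiProjective f) : RelProj.IsHQuasiProjective f' := by
  obtain ⟨n, i, hi, hqc, rfl⟩ := hf
  let t := CohB1.ProjSpace.toSpec n (ULift.{u} ℤ)
  let a : CohB1.ProjSpaceOver n S' ⟶ CohB1.ProjSpaceOver n S :=
    pullback.map t (specULiftZIsTerminal.from S') t (specULiftZIsTerminal.from S) (𝟙 _) g (𝟙 _)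
      (by simp) (specULiftZIsTerminal.hom_ext _ _)
  have hsq : IsPullback a (CohB1.ProjSpaceOver.toBase n S') (CohB1.ProjSpaceOver.toBase n S) g := by
    refine IsPullback.of_right (h₁₂ := pullback.fst t (specULiftZIsTerminal.from S))
      (h₂₂ := specULiftZIsTerminal.from S) (v₁₃ := t) ?_ ?_ (IsPullback.of_hasPullback _ _)
    · have e1 : a ≫ pullback.fst t (specULiftZIsTerminal.from S) = pullback.fst t (specULiftZIsTerminal.from S') := by
        simp [a]
      have e2 : g ≫ specULiftZIsTerminal.from S = specULiftZIsTerminal.from S' := specULiftZIsTerminal.hom_ext _ _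
      rw [e1, e2]
      exact IsPullback.of_hasPullback _ _
    · exact pullback.lift_snd _ _ _
  let j : X' ⟶ CohB1.ProjSpaceOver n S' :=
    hsq.lift (g' ≫ i) f' (by rw [Category.assoc, h.w])
  have hsq2 : IsPullback g' j i a := by
    refine IsPullback.of_bot ?_ ?_ hsq
    · rw [hsq.lift_snd]; exact h
    · exact (hsq.lift_fst _ _ _).symm
  exact ⟨n, j, MorphismProperty.of_isPullback hsq2 hi, MorphismProperty.of_isPullback hsq2 hqc,
    hsq.lift_snd _ _ _⟩

theorem restrict_of_le {X S : Scheme.{u}} (f : X ⟶ S) {U W : S.Opens} (h : W ≤ U)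
    (hf : RelProj.IsHQuasiProjective (f ∣_ U)) : RelProj.IsHQuasiProjective (f ∣_ W) := by
  have e : f ⁻¹ᵁ W ≤ f ⁻¹ᵁ U := fun z hz => h hz
  refine of_isPullback (g' := X.homOfLE e) (g := S.homOfLE h) ?_ hf
  refine IsPullback.of_bot ?_ ?_ (isPullback_morphismRestrict f U) |> IsPullback.flip
  · rw [Scheme.homOfLE_ι, Scheme.homOfLE_ι]
    exact isPullback_morphismRestrict f W
  · rw [← cancel_mono U.ι, Category.assoc, Category.assoc, morphismRestrict_ι, Scheme.homOfLE_ι,
      morphismRestrict_ι, Scheme.homOfLE_ι_assoc]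

/-- over an affine base an H-quasi-projective morphism is quasi-projective -/
theorem isQuasiProjective_of_isAffine {X S : Scheme.{u}} [IsAffine S] {f : X ⟶ S}
    (hf : RelProj.IsHQuasiProjective f) : RelProj.IsQuasiProjective f := by
  obtain ⟨n, i, hi, hqc, rfl⟩ := hf
  haveI := hi
  haveI := hqc
  haveI := isProper_toBase n S
  haveI : QuasiCompact (i ≫ CohB1.ProjSpaceOver.toBase n S) := inferInstance
  haveI : CompactSpace X := QuasiCompact.compactSpace_of_compactSpace (i ≫ CohB1.ProjSpaceOver.toBase n S)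
  have hP := ProjMor.isAmple_twistOver n S
  have hA : CohB1.IsAmple ((Scheme.Modules.pullback i).obj (Twist.twistOver n S 1)) :=
    TMul.isAmple_pullback i i.isEmbedding.isInducing hP
  refine ⟨inferInstance, inferInstance, _, TMul.isRelAmple_of_exists hA.1 fun y => ⟨⊤, trivial, ?_⟩⟩
  haveI : CompactSpace ((i ≫ CohB1.ProjSpaceOver.toBase n S) ⁻¹ᵁ (⊤ : S.Opens)).toScheme :=
    isCompact_iff_compactSpace.mp (show IsCompact ((i ≫ CohB1.ProjSpaceOver.toBase n S) ⁻¹' Set.univ) by
      simpa using isCompact_univ)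
  refine TMul.isAmple_congr ((Scheme.Modules.restrictFunctorIsoPullback _).app _).symm ?_
  exact TMul.isAmple_pullback _ (Scheme.Opens.ι _).isEmbedding.isInducing hA

/-- over an affine open of the base a quasi-projective morphism is H-quasi-projective -/
theorem isHQuasiProjective_restrict {X S : Scheme.{u}} {f : X ⟶ S} (hf : RelProj.IsQuasiProjective f)
    {W : S.Opens} (hW : IsAffineOpen W) : RelProj.IsHQuasiProjective (f ∣_ W) := by
  obtain ⟨hlft, hqc, L, hL⟩ := hf
  haveI := hlft
  haveI := hqc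
  obtain ⟨d, -, hv⟩ := ProjMor.eventually_isRelVeryAmplePn (f ∣_ W) (hL.2 ⟨W, hW⟩)
  obtain ⟨n, i, hi, hif, -⟩ := hv d le_rfl
  haveI := hi
  haveI : IsAffine W.toScheme := hW
  haveI := isProper_toBase n W.toScheme
  haveI : QuasiCompact (i ≫ CohB1.ProjSpaceOver.toBase n W.toScheme) := by
    rw [show i ≫ CohB1.ProjSpaceOver.toBase n W.toScheme = f ∣_ W from hif]
    infer_instance
  exact ⟨n, i, hi, QuasiCompact.of_comp i (CohB1.ProjSpaceOver.toBase n W.toScheme), hif⟩

end Groth.Agent.HQProj
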